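import Groth.Agent.Lib.Telescope29.Basic
import Mathlib.Algebra.Homology.DerivedCategory.ShortExact
import Mathlib.Algebra.Homology.GrothendieckAbelian
import Mathlib.CategoryTheory.Limits.Preserves.Shapes.Products

/-!
# The colimit of a sequence of complexes is a homotopy colimit
-/

set_option autoImplicit false

universe w v u

open CategoryTheory CategoryTheory.Limits CategoryTheory.Pretriangulated

namespace Hocolim29

theorem isHocolim_colimit {A : Type u} [Category.{v} A] [Abelian A] [HasDerivedCategory.{w} A]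
    [HasColimitsOfShape ℕ A] [HasExactColimitsOfShape ℕ A]
    (L : ℕ ⥤ CochainComplex A ℤ) [HasCoproduct L.obj]
    [PreservesColimit (Discrete.functor L.obj) (DerivedCategory.Q (C := A))]
    [HasCoproduct (fun n => DerivedCategory.Q.obj (L.obj n))] :
    DerLim.IsHocolim (fun n => DerivedCategory.Q.obj (L.obj n))
      (fun n => DerivedCategory.Q.map (L.map (homOfLE (Nat.le_succ n))))
      (DerivedCategory.Q.obj (colimit L)) (fun n => DerivedCategory.Q.map (colimit.ι L n)) := by
  let Q := DerivedCategory.Q (C := A)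
  obtain ⟨w, hw⟩ := Telescope29.shortExact L
  have hT := DerivedCategory.triangleOfSES_distinguished hw
  have hc : IsColimit (Cofan.mk (Q.obj (∐ L.obj)) (fun n => Q.map (Sigma.ι L.obj n)) :
      Cofan fun n => Q.obj (L.obj n)) :=
    isColimitCofanMkObjOfIsColimit Q (f := L.obj) (g := Sigma.ι L.obj) (coproductIsCoproduct L.obj)
  let e : (∐ fun n => Q.obj (L.obj n)) ≅ Q.obj (∐ L.obj) := (colimit.isColimit _).coconePointUniqueUpToIso hc
  have he : ∀ n, Sigma.ι (fun n => Q.obj (L.obj n)) n ≫ e.hom = Q.map (Sigma.ι L.obj n) := fun n =>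
    IsColimit.comp_coconePointUniqueUpToIso_hom (colimit.isColimit _) hc ⟨n⟩
  have comm : (𝟙 _ - DerLim.shiftMap (fun n => Q.obj (L.obj n)) fun n => Q.map (L.map (homOfLE (Nat.le_succ n)))) ≫
      e.hom = e.hom ≫ Q.map (𝟙 (∐ L.obj) - DerLim.shiftMap L.obj fun n => L.map (homOfLE (Nat.le_succ n))) := by
    refine Sigma.hom_ext _ _ fun n => ?_
    rw [← Category.assoc, ← Category.assoc, he, ← Q.map_comp, Preadditive.comp_sub, Preadditive.comp_sub,
      Preadditive.sub_comp, Category.comp_id, Category.comp_id, Q.map_sub, he]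
    congr 1
    rw [DerLim.shiftMap, DerLim.shiftMap, Sigma.ι_desc, Sigma.ι_desc, Category.assoc, he, Q.map_comp]
  refine ⟨DerivedCategory.triangleOfSESδ hw ≫ (shiftFunctor _ (1 : ℤ)).map e.inv, isomorphic_distinguished _ hT _ ?_⟩
  refine Triangle.isoMk _ _ e e (Iso.refl _) comm ?_ ?_
  · refine Sigma.hom_ext _ _ fun n => ?_
    show Sigma.ι (fun n => Q.obj (L.obj n)) n ≫ (Sigma.desc fun n => Q.map (colimit.ι L n)) ≫ 𝟙 _ =
      Sigma.ι (fun n => Q.obj (L.obj n)) n ≫ e.hom ≫ Q.map (Sigma.desc fun n => colimit.ι L n)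
    rw [← Category.assoc _ e.hom, he, ← Q.map_comp, Category.comp_id, Sigma.ι_desc, Sigma.ι_desc]
  · show (DerivedCategory.triangleOfSESδ hw ≫ (shiftFunctor _ (1 : ℤ)).map e.inv) ≫ (shiftFunctor _ (1 : ℤ)).map e.hom =
      𝟙 _ ≫ DerivedCategory.triangleOfSESδ hw
    rw [Category.assoc, ← Functor.map_comp, e.inv_hom_id, CategoryTheory.Functor.map_id, Category.comp_id]
    exact (Category.id_comp _).symm

end Hocolim29
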