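import Groth.Agent.Lib.Telescope29.Basic
import Mathlib.CategoryTheory.Triangulated.HomologicalFunctor
import Mathlib.CategoryTheory.Limits.Preserves.Shapes.Products
import Mathlib.CategoryTheory.Adjunction.Limits
import Mathlib.CategoryTheory.Functor.OfSequence

/-!
# Homological functors and sequential homotopy colimits
-/

set_option autoImplicit false

universe v u v' u'

open CategoryTheory CategoryTheory.Limits CategoryTheory.Pretriangulated

namespace Hocolim29

variable {D : Type u} [Category.{v} D] [Preadditive D] {A : Type u'} [Category.{v'} A] [Abelian A]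
variable [HasColimitsOfShape ℕ A] [HasExactColimitsOfShape ℕ A]

/-- an additive functor preserving the coproduct carries `1 - shift` to a telescope -/
theorem map_telescope (G : D ⥤ A) [G.Additive] (K : ℕ → D) [HasCoproduct K]
    [PreservesColimit (Discrete.functor K) G] (f : ∀ n, K n ⟶ K (n + 1)) :
    ∃ q : G.obj (∐ K) ⟶ colimit (Functor.ofSequence fun n => G.map (f n)),
      (∀ n, G.map (Sigma.ι K n) ≫ q = colimit.ι (Functor.ofSequence fun n => G.map (f n)) n) ∧
      ∃ w : G.map (𝟙 (∐ K) - DerLim.shiftMap K f) ≫ q = 0, (ShortComplex.mk _ _ w).ShortExact := by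
  set Fs := Functor.ofSequence fun n => G.map (f n) with hFs
  have hc : IsColimit (Cofan.mk (G.obj (∐ K)) (fun n => G.map (Sigma.ι K n)) : Cofan Fs.obj) :=
    isColimitCofanMkObjOfIsColimit G (f := K) (g := Sigma.ι K) (coproductIsCoproduct K)
  haveI : HasCoproduct Fs.obj := ⟨⟨⟨_, hc⟩⟩⟩
  let e : ∐ Fs.obj ≅ G.obj (∐ K) := (colimit.isColimit _).coconePointUniqueUpToIso hc
  have he : ∀ n, Sigma.ι Fs.obj n ≫ e.hom = G.map (Sigma.ι K n) := fun n =>
    IsColimit.comp_coconePointUniqueUpToIso_hom (colimit.isColimit _) hc ⟨n⟩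
  obtain ⟨w, hw⟩ := Telescope29.shortExact Fs
  have comm : e.hom ≫ G.map (𝟙 (∐ K) - DerLim.shiftMap K f) =
      (𝟙 _ - DerLim.shiftMap Fs.obj fun n => Fs.map (homOfLE (Nat.le_succ n))) ≫ e.hom := by
    refine Sigma.hom_ext _ _ fun n => ?_
    rw [← Category.assoc, he]
    erw [← G.map_comp]
    rw [Preadditive.sub_comp, Category.id_comp, Preadditive.comp_sub, Preadditive.comp_sub, Category.comp_id, G.map_sub, he]
    congr 1
    rw [DerLim.shiftMap, DerLim.shiftMap, Sigma.ι_desc, Sigma.ι_desc_assoc, Category.assoc, he, G.map_comp]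
    erw [Functor.ofSequence_map_homOfLE_succ]
    rfl
  refine ⟨e.inv ≫ Sigma.desc fun n => colimit.ι Fs n, fun n => ?_, ?_, ?_⟩
  · rw [← he]
    exact (Category.assoc _ _ _).trans (by rw [Iso.hom_inv_id_assoc]; exact Sigma.ι_desc _ _)
  · rw [← cancel_epi e.hom, ← Category.assoc, comm, Category.assoc, Iso.hom_inv_id_assoc, w, comp_zero]
  · exact ShortComplex.shortExact_of_iso
      (ShortComplex.isoMk (S₁ := ShortComplex.mk _ _ w) e e (Iso.refl _) comm
        ((Iso.hom_inv_id_assoc e _).trans (Category.comp_id _).symm)) hw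

variable [HasZeroObject D] [HasShift D ℤ] [∀ n : ℤ, (shiftFunctor D n).Additive] [Pretriangulated D]

/-- a homological functor commuting with countable sums turns homotopy colimits into colimits -/
theorem homological_hocolim [HasColimitsOfShape (Discrete ℕ) D] (H : D ⥤ A) [H.IsHomological]
    [PreservesColimitsOfShape (Discrete ℕ) H] (K : ℕ → D) (f : ∀ n, K n ⟶ K (n + 1)) (L : D) (i : ∀ n, K n ⟶ L)
    (hL : DerLim.IsHocolim K f L i) :
    ∃ e : colimit (Functor.ofSequence (fun n => H.map (f n))) ≅ H.obj L,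
      ∀ n : ℕ, colimit.ι (Functor.ofSequence (fun n => H.map (f n))) n ≫ e.hom = H.map (i n) := by
  obtain ⟨c, hT⟩ := hL
  obtain ⟨q, hq, wq, hqe⟩ := map_telescope H K f
  haveI : (shiftFunctor D (1 : ℤ) ⋙ H).Additive := inferInstance
  haveI : PreservesColimitsOfShape (Discrete ℕ) (shiftFunctor D (1 : ℤ) ⋙ H) := inferInstance
  obtain ⟨_, _, _, hse⟩ := map_telescope (shiftFunctor D (1 : ℤ) ⋙ H) K f
  haveI hm : Mono (H.map ((shiftFunctor D (1 : ℤ)).map (𝟙 (∐ K) - DerLim.shiftMap K f))) := hse.mono_f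
  have hc : H.map c = 0 := by
    rw [← cancel_mono (H.map ((shiftFunctor D (1 : ℤ)).map (𝟙 (∐ K) - DerLim.shiftMap K f))), zero_comp,
      ← H.map_comp]
    exact (congrArg H.map (comp_distTriang_mor_zero₃₁ _ hT)).trans (H.map_zero _ _)
  have h12 := H.map_distinguished_exact _ hT
  have h23 := H.map_distinguished_exact _ (rot_of_distTriang _ hT)
  haveI hepi : Epi (H.map (Sigma.desc i)) := h23.epi_f hc
  haveI : Epi q := hqe.epi_g
  haveI : Epi ((shortComplexOfDistTriangle _ hT).map H).g := hepi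
  have hcok := h12.gIsCokernel
  have hcok' := hqe.exact.gIsCokernel
  refine ⟨hcok'.coconePointUniqueUpToIso hcok, fun n => ?_⟩
  rw [← hq n]
  refine (Category.assoc _ _ _).trans ?_
  have h : q ≫ (hcok'.coconePointUniqueUpToIso hcok).hom = H.map (Sigma.desc i) :=
    IsColimit.comp_coconePointUniqueUpToIso_hom hcok' hcok WalkingParallelPair.one
  exact (congrArg (H.map (Sigma.ι K n) ≫ ·) h).trans ((H.map_comp _ _).symm.trans (by rw [Sigma.ι_desc]))

end Hocolim29
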