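import Groth.Prelude.Def_DerLim
import Mathlib.CategoryTheory.Triangulated.Pretriangulated
import Mathlib.CategoryTheory.Limits.Shapes.Products
import Mathlib.Algebra.BigOperators.Intervals
import Mathlib.Algebra.Order.BigOperators.Group.LocallyFinite
import Mathlib.Data.Nat.Find
import Mathlib.Order.Monotone.Basic
import Mathlib.Tactic.Abel
import Mathlib.Tactic.NoncommRing

/-!
# Homotopy colimit of a subsequence
-/

set_option autoImplicit false

universe v u

open CategoryTheory CategoryTheory.Limits CategoryTheory.Pretriangulated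

namespace Hocolim29

variable {D : Type u} [Category.{v} D] [Preadditive D]

section Fill

variable [HasZeroObject D] [HasShift D ℤ] [∀ n : ℤ, (shiftFunctor D n).Additive] [Pretriangulated D]

/-- an endomorphism of a cofibre induced by a homotopy of the identity is invertible -/
theorem isIso_of_homotopy {X Y L : D} {φ : X ⟶ Y} {j : Y ⟶ L} {c : L ⟶ (shiftFunctor D (1 : ℤ)).obj X}
    (hT : Triangle.mk φ j c ∈ distinguishedTriangles) {u : X ⟶ X} {v : Y ⟶ Y} (θ : L ⟶ L) (h : Y ⟶ X)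
    (hu : u - 𝟙 X = φ ≫ h) (hv : v - 𝟙 Y = h ≫ φ) (h1 : j ≫ θ = v ≫ j)
    (h2 : c ≫ (shiftFunctor D (1 : ℤ)).map u = θ ≫ c) : IsIso θ := by
  set δ := θ - 𝟙 L with hδ
  have e1 : j ≫ δ = 0 := by
    have hz : φ ≫ j = 0 := comp_distTriang_mor_zero₁₂ _ hT
    calc j ≫ δ = (v - 𝟙 Y) ≫ j := by rw [hδ, Preadditive.comp_sub, h1, Preadditive.sub_comp, Category.comp_id, Category.id_comp]
      _ = 0 := by rw [hv, Category.assoc, hz, comp_zero]
  have e2 : δ ≫ c = 0 := by
    have hz : c ≫ (shiftFunctor D (1 : ℤ)).map φ = 0 := comp_distTriang_mor_zero₃₁ _ hT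
    calc δ ≫ c = c ≫ (shiftFunctor D (1 : ℤ)).map (u - 𝟙 X) := by
          rw [Functor.map_sub, Preadditive.comp_sub, h2, CategoryTheory.Functor.map_id, Category.comp_id, hδ,
            Preadditive.sub_comp, Category.id_comp]
      _ = 0 := by rw [hu, Functor.map_comp, ← Category.assoc, hz, zero_comp]
  obtain ⟨y, hy⟩ := Triangle.coyoneda_exact₃ _ hT δ e2
  have hsq : δ ≫ δ = 0 := by
    conv_lhs => arg 1; rw [hy]
    exact (Category.assoc _ _ _).trans ((congrArg (y ≫ ·) e1).trans comp_zero)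
  have hθ : θ = 𝟙 L + δ := by rw [hδ]; abel
  refine ⟨⟨𝟙 L - δ, ?_, ?_⟩⟩
  · simp only [hθ, Preadditive.comp_sub, Preadditive.add_comp, Category.comp_id, Category.id_comp, hsq]; abel
  · simp only [hθ, Preadditive.comp_add, Preadditive.sub_comp, Category.comp_id, Category.id_comp, hsq]; abel

end Fill

variable (F : ℕ ⥤ D)

section Seq

variable [HasCoproduct F.obj]

/-- `F (i → j)` followed by the inclusion of the `j`-th summand -/
noncomputable def E (i j : ℕ) : F.obj i ⟶ ∐ F.obj :=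
  if h : i ≤ j then F.map (homOfLE h) ≫ Sigma.ι F.obj j else 0

theorem E_of_le {i j : ℕ} (h : i ≤ j) : E F i j = F.map (homOfLE h) ≫ Sigma.ι F.obj j := dif_pos h

theorem E_self (i : ℕ) : E F i i = Sigma.ι F.obj i := by
  rw [E_of_le F le_rfl]; simp

/-- `1 - shift` -/
noncomputable abbrev dif : (∐ F.obj) ⟶ ∐ F.obj :=
  𝟙 (∐ F.obj) - DerLim.shiftMap F.obj (fun m => F.map (homOfLE (Nat.le_succ m)))

theorem ι_dif (m : ℕ) :
    Sigma.ι F.obj m ≫ dif F = Sigma.ι F.obj m - F.map (homOfLE (Nat.le_succ m)) ≫ Sigma.ι F.obj (m + 1) := by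
  simp [dif, DerLim.shiftMap, Preadditive.comp_sub]

theorem map_E {i l j : ℕ} (h : i ≤ l) (h' : l ≤ j) : F.map (homOfLE h) ≫ E F l j = E F i j := by
  rw [E_of_le F h', E_of_le F (h.trans h'), ← F.map_comp_assoc]; rfl

theorem E_dif {i j : ℕ} (h : i ≤ j) : E F i j ≫ dif F = E F i j - E F i (j + 1) := by
  rw [E_of_le F h, Category.assoc, ι_dif, Preadditive.comp_sub, E_of_le F (h.trans (Nat.le_succ j)),
    ← F.map_comp_assoc]
  rfl

/-- partial sums -/
noncomputable def S (i a b : ℕ) : F.obj i ⟶ ∐ F.obj := ∑ j ∈ Finset.Ico a b, E F i j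

theorem S_dif {i a b : ℕ} (h : i ≤ a) (h' : a ≤ b) : S F i a b ≫ dif F = E F i a - E F i b := by
  induction b, h' using Nat.le_induction with
  | base => simp [S]
  | succ b hb ih =>
    have : S F i a (b + 1) = S F i a b + E F i b := Finset.sum_Ico_succ_top hb _
    rw [this, Preadditive.add_comp, ih, E_dif F (h.trans hb)]
    abel

theorem map_S {i l a b : ℕ} (h : i ≤ l) (h' : l ≤ a) : F.map (homOfLE h) ≫ S F l a b = S F i a b := by
  rw [S, Preadditive.comp_sum]
  exact Finset.sum_congr rfl fun j hj => map_E F h (h'.trans (Finset.mem_Ico.1 hj).1)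

theorem S_head {i b : ℕ} (h : i < b) : S F i i b = Sigma.ι F.obj i + S F i (i + 1) b := by
  rw [S, Finset.sum_eq_sum_Ico_succ_bot h, E_self]; rfl

end Seq

variable {n : ℕ → ℕ} (hn : StrictMono n)

include hn in
theorem exists_ge (m : ℕ) : ∃ i, m ≤ n i := ⟨m, hn.id_le m⟩

/-- the first index of the subsequence beyond `m` -/
noncomputable def k (m : ℕ) : ℕ := Nat.find (exists_ge hn m)

theorem le_k (m : ℕ) : m ≤ n (k hn m) := Nat.find_spec (exists_ge hn m)

theorem k_le {m i : ℕ} (h : m ≤ n i) : k hn m ≤ i := Nat.find_le h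

theorem k_n (i : ℕ) : k hn (n i) = i :=
  le_antisymm (k_le hn le_rfl) (hn.le_iff_le.1 (le_k hn (n i)))

theorem k_succ_of_ne {m : ℕ} (h : m ≠ n (k hn m)) : k hn (m + 1) = k hn m :=
  le_antisymm (k_le hn (lt_of_le_of_ne (le_k hn m) h)) (k_le hn ((Nat.le_succ m).trans (le_k hn (m + 1))))

theorem k_succ_of_eq {m i : ℕ} (h : m = n i) : k hn (m + 1) = i + 1 := by
  subst h
  refine le_antisymm (k_le hn (hn (Nat.lt_succ_self i))) ?_
  by_contra hc
  have := (le_k hn (n i + 1)).trans (hn.monotone (Nat.le_of_lt_succ (not_le.1 hc)))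
  omega

variable [HasCoproduct F.obj] [HasCoproduct fun i => F.obj (n i)]

/-- `1 - shift` of the subsequence -/
noncomputable abbrev dif' : (∐ fun i => F.obj (n i)) ⟶ ∐ fun i => F.obj (n i) :=
  𝟙 _ - DerLim.shiftMap (fun i => F.obj (n i)) (fun i => F.map (homOfLE (hn.monotone (Nat.le_succ i))))

theorem ι_dif' (i : ℕ) :
    Sigma.ι (fun i => F.obj (n i)) i ≫ dif' F hn = Sigma.ι (fun i => F.obj (n i)) i -
      F.map (homOfLE (hn.monotone (Nat.le_succ i))) ≫ Sigma.ι (fun i => F.obj (n i)) (i + 1) := by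
  simp [dif', DerLim.shiftMap, Preadditive.comp_sub]

/-- down, second component -/
noncomputable def dv : (∐ fun i => F.obj (n i)) ⟶ ∐ F.obj := Sigma.desc fun i => Sigma.ι F.obj (n i)

/-- down, first component -/
noncomputable def du : (∐ fun i => F.obj (n i)) ⟶ ∐ F.obj := Sigma.desc fun i => S F (n i) (n i) (n (i + 1))

/-- `F (m → n i)` followed by the inclusion in the subsequence -/
noncomputable def E' (m i : ℕ) : F.obj m ⟶ ∐ fun i => F.obj (n i) :=
  if h : m ≤ n i then F.map (homOfLE h) ≫ Sigma.ι (fun i => F.obj (n i)) i else 0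

/-- up, second component -/
noncomputable def uv : (∐ F.obj) ⟶ ∐ fun i => F.obj (n i) := Sigma.desc fun m => E' F m (k hn m)

/-- up, first component -/
noncomputable def uu : (∐ F.obj) ⟶ ∐ fun i => F.obj (n i) :=
  Sigma.desc fun m => if m = n (k hn m) then E' F m (k hn m) else 0

/-- the homotopy -/
noncomputable def hmtp : (∐ F.obj) ⟶ ∐ F.obj := Sigma.desc fun m => -S F m m (n (k hn m))

theorem E'_n (i : ℕ) : E' F (n i) i = Sigma.ι (fun i => F.obj (n i)) i := by
  rw [E', dif_pos le_rfl]; simp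

theorem down_comm : du F (n := n) ≫ dif F = dif' F hn ≫ dv F := by
  refine Sigma.hom_ext _ _ fun i => ?_
  rw [← Category.assoc, ← Category.assoc, ι_dif', du, Sigma.ι_desc, S_dif F le_rfl (hn.monotone (Nat.le_succ i)),
    Preadditive.sub_comp, dv, Category.assoc, Sigma.ι_desc, Sigma.ι_desc, E_self, E_of_le]

theorem up_comm : uu F hn ≫ dif' F hn = dif F ≫ uv F hn := by
  refine Sigma.hom_ext _ _ fun m => ?_
  rw [← Category.assoc, ← Category.assoc, uu, Sigma.ι_desc, ι_dif, Preadditive.sub_comp, Category.assoc, uv,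
    Sigma.ι_desc, Sigma.ι_desc]
  have hm : m + 1 ≤ n (k hn (m + 1)) := le_k hn (m + 1)
  rw [E', E', dif_pos (le_k hn m), dif_pos hm, ← F.map_comp_assoc, homOfLE_comp]
  split_ifs with h
  · obtain ⟨i, hi⟩ : ∃ i, k hn m = i := ⟨_, rfl⟩
    have hk : k hn (m + 1) = i + 1 := k_succ_of_eq hn (hi ▸ h)
    rw [Category.assoc, ι_dif', Preadditive.comp_sub, ← F.map_comp_assoc, homOfLE_comp]
    congr 1
    rw! [hk, hi]
    rfl
  · rw! [k_succ_of_ne hn h]
    rw [zero_comp, sub_self]

theorem down_up_v : dv F ≫ uv F hn = 𝟙 _ := by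
  refine Sigma.hom_ext _ _ fun i => ?_
  rw [dv, ← Category.assoc, Sigma.ι_desc, uv, Sigma.ι_desc, Category.comp_id]
  rw! [k_n hn i]
  exact E'_n F i

theorem down_up_u : du F ≫ uu F hn = 𝟙 _ := by
  refine Sigma.hom_ext _ _ fun i => ?_
  have hlt : n i < n (i + 1) := hn (Nat.lt_succ_self i)
  rw [du, ← Category.assoc, Sigma.ι_desc, S_head F hlt, Preadditive.add_comp, uu, Sigma.ι_desc,
    Category.comp_id, if_pos (by rw [k_n])]
  have hz : S F (n i) (n i + 1) (n (i + 1)) ≫
      Sigma.desc (fun m => if m = n (k hn m) then E' F (n := n) m (k hn m) else 0) = 0 := by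
    rw [S, Preadditive.sum_comp]
    refine Finset.sum_eq_zero fun j hj => ?_
    obtain ⟨h1, h2⟩ := Finset.mem_Ico.1 hj
    rw [E_of_le F (by omega : n i ≤ j), Category.assoc, Sigma.ι_desc, if_neg, comp_zero]
    intro h
    have h3 : n i < n (k hn j) := by omega
    have h4 : n (k hn j) < n (i + 1) := by omega
    have := hn.lt_iff_lt.1 h3
    have := hn.lt_iff_lt.1 h4
    omega
  rw [hz, add_zero]
  rw! [k_n hn i]
  exact E'_n F i

theorem up_down_v : uv F hn ≫ dv F - 𝟙 _ = hmtp F hn ≫ dif F := by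
  refine Sigma.hom_ext _ _ fun m => ?_
  rw [Preadditive.comp_sub, ← Category.assoc, ← Category.assoc, uv, Sigma.ι_desc, hmtp, Sigma.ι_desc,
    Category.comp_id, E', dif_pos (le_k hn m), dv, Category.assoc, Sigma.ι_desc, Preadditive.neg_comp,
    S_dif F le_rfl (le_k hn m), neg_sub, E_self, E_of_le F (le_k hn m)]

theorem up_down_u : uu F hn ≫ du F - 𝟙 _ = dif F ≫ hmtp F hn := by
  refine Sigma.hom_ext _ _ fun m => ?_
  rw [Preadditive.comp_sub, ← Category.assoc, ← Category.assoc, uu, Sigma.ι_desc, ι_dif, hmtp, Preadditive.sub_comp,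
    Category.assoc, Sigma.ι_desc, Sigma.ι_desc, Category.comp_id, Preadditive.comp_neg,
    map_S F (Nat.le_succ m) le_rfl]
  split_ifs with h
  · obtain ⟨i, hi⟩ : ∃ i, k hn m = i := ⟨_, rfl⟩
    have hk : k hn (m + 1) = i + 1 := k_succ_of_eq hn (hi ▸ h)
    have hlt : m < n (i + 1) := by
      have : n i < n (i + 1) := hn (Nat.lt_succ_self i)
      rw [hi] at h
      omega
    rw [E', dif_pos (le_k hn m), du, Category.assoc, Sigma.ι_desc, map_S F (le_k hn m) le_rfl, hk, hi,
      show n i = m by rw [← hi]; exact h.symm, S_head F hlt,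
      show S F m m m = 0 by rw [S, Finset.Ico_self, Finset.sum_empty]]
    simp
  · rw [zero_comp, k_succ_of_ne hn h, S_head F (lt_of_le_of_ne (le_k hn m) h)]
    abel

variable [HasZeroObject D] [HasShift D ℤ] [∀ i : ℤ, (shiftFunctor D i).Additive] [Pretriangulated D]

include hn in
/-- the homotopy colimit of a subsequence -/
theorem subsequence_iso (L : D) (ι : ∀ m : ℕ, F.obj m ⟶ L)
    (hL : DerLim.IsHocolim (fun m : ℕ => F.obj m) (fun m : ℕ => F.map (homOfLE (Nat.le_succ m))) L ι)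
    (L' : D) (ι' : ∀ i : ℕ, F.obj (n i) ⟶ L')
    (hL' : DerLim.IsHocolim (fun i : ℕ => F.obj (n i))
      (fun i : ℕ => F.map (homOfLE (hn.monotone (Nat.le_succ i)))) L' ι') :
    ∃ e : L' ≅ L, ∀ i : ℕ, ι' i ≫ e.hom = ι (n i) := by
  obtain ⟨c, hT⟩ := hL
  obtain ⟨c', hT'⟩ := hL'
  have hT0 : Triangle.mk (dif F) (Sigma.desc ι) c ∈ distinguishedTriangles := hT
  have hT1 : Triangle.mk (dif' F hn) (Sigma.desc ι') c' ∈ distinguishedTriangles := hT'
  obtain ⟨(a : L' ⟶ L), ha1, ha2⟩ := complete_distinguished_triangle_morphism _ _ hT1 hT0 (du F) (dv F) (down_comm F hn).symm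
  obtain ⟨(b : L ⟶ L'), hb1, hb2⟩ := complete_distinguished_triangle_morphism _ _ hT0 hT1 (uu F hn) (uv F hn) (up_comm F hn).symm
  change Sigma.desc ι' ≫ a = dv F ≫ Sigma.desc ι at ha1
  change c' ≫ (shiftFunctor D (1 : ℤ)).map (du F) = a ≫ c at ha2
  change Sigma.desc ι ≫ b = uv F hn ≫ Sigma.desc ι' at hb1
  change c ≫ (shiftFunctor D (1 : ℤ)).map (uu F hn) = b ≫ c' at hb2
  have h1 : IsIso (a ≫ b) := isIso_of_homotopy hT1 (u := du F ≫ uu F hn) (v := dv F ≫ uv F hn) _ 0
    (by rw [down_up_u, sub_self, comp_zero]) (by rw [down_up_v, sub_self, zero_comp])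
    (by rw [← Category.assoc, ha1, Category.assoc, hb1, Category.assoc])
    (by rw [Functor.map_comp, ← Category.assoc, ha2, Category.assoc, hb2, Category.assoc])
  have h2 : IsIso (b ≫ a) := isIso_of_homotopy hT0 (u := uu F hn ≫ du F) (v := uv F hn ≫ dv F) _ (hmtp F hn)
    (up_down_u F hn) (up_down_v F hn)
    (by rw [← Category.assoc, hb1, Category.assoc, ha1, Category.assoc])
    (by rw [Functor.map_comp, ← Category.assoc, hb2, Category.assoc, ha2, Category.assoc])
  haveI : IsSplitMono a := ⟨⟨b ≫ inv (a ≫ b), by rw [← Category.assoc, IsIso.hom_inv_id]⟩⟩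
  haveI : Epi a := by
    haveI : Epi (b ≫ a) := inferInstance
    exact epi_of_epi b a
  haveI : IsIso a := isIso_of_epi_of_isSplitMono a
  refine ⟨asIso a, fun i => ?_⟩
  have := congrArg (Sigma.ι (fun i => F.obj (n i)) i ≫ ·) ha1
  simpa [dv] using this

end Hocolim29
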